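import Cfsg.Agent.Lib.TitsMult.Tables

/-!
# Kernel checks for the Schur multiplier of the Tits group
-/

set_option autoImplicit false
set_option maxRecDepth 100000
set_option maxHeartbeats 2000000
set_option Elab.async false

namespace Cfsg.Agent.Lib.TitsMult

open Cfsg.Agent.Lib.J3 Cfsg.Agent.KnownA.Tits

theorem groupThree : groupOK genThree fusConjThree killThree = true := by decide +kernel

theorem ownerThree_ok : killThree.ownerOK = true := by decide +kernel

theorem shapeThree : killThree.shapeOK 3 = true := by decide +kernel

theorem comboThree_ok : allIn (fun k => killThree.comboTOK tblThree 3 k) 0 6 = true := by decide +kernel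

theorem tblThree0 : allIn (tblAt killThree 3 tblThree) 0 7 = true := by decide +kernel

theorem tableThree : killThree.tableOK 3 tblThree = true := by
  refine tableOK_of (by decide +kernel) fun m hm => ?_
  replace hm : m < 7 := lt_of_lt_of_eq hm (by decide +kernel)
  exact allIn_spec tblThree0 (by omega) (by omega)

theorem digThree0 : allIn (digOK 3 3 genThree baseThree digThree srtThree rankThree) 0 27 = true := by decide +kernel

theorem digThree_ok {m : ℕ} (hm : m < 27) : (digOK 3 3 genThree baseThree digThree srtThree rankThree) m = true := by
  exact allIn_spec digThree0 (by omega) (by omega)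

theorem smallThree0 : allIn (smallOK 3 3) 0 27 = true := by decide +kernel

theorem smallThree_ok {m : ℕ} (hm : m < 27) : (smallOK 3 3) m = true := by
  exact allIn_spec smallThree0 (by omega) (by omega)

theorem groupFive : groupOK genFive fusConjFive killFive = true := by decide +kernel

theorem ownerFive_ok : killFive.ownerOK = true := by decide +kernel

theorem shapeFive : killFive.shapeOK 5 = true := by decide +kernel

theorem comboFive_ok : allIn (fun k => killFive.comboTOK tblFive 5 k) 0 3 = true := by decide +kernel

theorem tblFive0 : allIn (tblAt killFive 5 tblFive) 0 4 = true := by decide +kernel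

theorem tableFive : killFive.tableOK 5 tblFive = true := by
  refine tableOK_of (by decide +kernel) fun m hm => ?_
  replace hm : m < 4 := lt_of_lt_of_eq hm (by decide +kernel)
  exact allIn_spec tblFive0 (by omega) (by omega)

theorem digFive0 : allIn (digOK 5 2 genFive baseFive digFive srtFive rankFive) 0 25 = true := by decide +kernel

theorem digFive_ok {m : ℕ} (hm : m < 25) : (digOK 5 2 genFive baseFive digFive srtFive rankFive) m = true := by
  exact allIn_spec digFive0 (by omega) (by omega)

theorem smallFive0 : allIn (smallOK 5 2) 0 25 = true := by decide +kernel

theorem smallFive_ok {m : ℕ} (hm : m < 25) : (smallOK 5 2) m = true := by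
  exact allIn_spec smallFive0 (by omega) (by omega)

theorem thirteen : chkEq (rep 13 xL) [] = true ∧ chkNe xL = true := by
  have h := rel_chk
  simp only [Bool.and_eq_true] at h
  exact ⟨h.1.1.1.1.1.1.1.1.1.1.1.1.1.1.1, h.1.1.1.2⟩

end Cfsg.Agent.Lib.TitsMult
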