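import Cfsg.Agent.Lib.TitsMult.Tables

/-!
# Kernel checks for the Schur multiplier of the Tits group
-/

set_option autoImplicit false
set_option maxRecDepth 100000
set_option maxHeartbeats 2000000
set_option Elab.async false

namespace Cfsg.Agent.Lib.TitsMult

open Cfsg.Agent.Lib.J3 Cfsg.Agent.KnownA.Tits

theorem groupTwo : groupOK genTwo fusConjTwo killTwo = true := by decide +kernel

theorem ownerTwo_ok : killTwo.ownerOK = true := by decide +kernel

theorem shapeTwo : killTwo.shapeOK 2 = true := by decide +kernel

theorem comboTwo_ok : allIn (fun k => killTwo.comboTOK tblTwo 2 k) 0 66 = true := by decide +kernel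

end Cfsg.Agent.Lib.TitsMult
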