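import Cfsg.Agent.Lib.TitsMult.Tables

/-!
# Kernel checks for the Schur multiplier of the Tits group
-/

set_option autoImplicit false
set_option maxRecDepth 100000
set_option maxHeartbeats 2000000
set_option Elab.async false

namespace Cfsg.Agent.Lib.TitsMult

open Cfsg.Agent.Lib.J3 Cfsg.Agent.KnownA.Tits

theorem tblTwo0 : allIn (tblAt killTwo 2 tblTwo) 0 8 = true := by decide +kernel

theorem tblTwo1 : allIn (tblAt killTwo 2 tblTwo) 8 8 = true := by decide +kernel

theorem tblTwo2 : allIn (tblAt killTwo 2 tblTwo) 16 8 = true := by decide +kernel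

theorem tblTwo3 : allIn (tblAt killTwo 2 tblTwo) 24 8 = true := by decide +kernel

theorem tblTwo4 : allIn (tblAt killTwo 2 tblTwo) 32 8 = true := by decide +kernel

theorem tblTwo5 : allIn (tblAt killTwo 2 tblTwo) 40 8 = true := by decide +kernel

theorem tblTwo6 : allIn (tblAt killTwo 2 tblTwo) 48 8 = true := by decide +kernel

theorem tblTwo7 : allIn (tblAt killTwo 2 tblTwo) 56 8 = true := by decide +kernel

theorem tblTwo8 : allIn (tblAt killTwo 2 tblTwo) 64 8 = true := by decide +kernel

theorem tblTwo9 : allIn (tblAt killTwo 2 tblTwo) 72 8 = true := by decide +kernel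

theorem tblTwo10 : allIn (tblAt killTwo 2 tblTwo) 80 8 = true := by decide +kernel

theorem tblTwo11 : allIn (tblAt killTwo 2 tblTwo) 88 8 = true := by decide +kernel

theorem tblTwo12 : allIn (tblAt killTwo 2 tblTwo) 96 8 = true := by decide +kernel

theorem tblTwo13 : allIn (tblAt killTwo 2 tblTwo) 104 8 = true := by decide +kernel

theorem tableTwo : killTwo.tableOK 2 tblTwo = true := by
  refine tableOK_of (by decide +kernel) fun m hm => ?_
  replace hm : m < 112 := lt_of_lt_of_eq hm (by decide +kernel)
  by_cases h0 : m < 8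
  · exact allIn_spec tblTwo0 (by omega) (by omega)
  by_cases h1 : m < 16
  · exact allIn_spec tblTwo1 (by omega) (by omega)
  by_cases h2 : m < 24
  · exact allIn_spec tblTwo2 (by omega) (by omega)
  by_cases h3 : m < 32
  · exact allIn_spec tblTwo3 (by omega) (by omega)
  by_cases h4 : m < 40
  · exact allIn_spec tblTwo4 (by omega) (by omega)
  by_cases h5 : m < 48
  · exact allIn_spec tblTwo5 (by omega) (by omega)
  by_cases h6 : m < 56
  · exact allIn_spec tblTwo6 (by omega) (by omega)
  by_cases h7 : m < 64
  · exact allIn_spec tblTwo7 (by omega) (by omega)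
  by_cases h8 : m < 72
  · exact allIn_spec tblTwo8 (by omega) (by omega)
  by_cases h9 : m < 80
  · exact allIn_spec tblTwo9 (by omega) (by omega)
  by_cases h10 : m < 88
  · exact allIn_spec tblTwo10 (by omega) (by omega)
  by_cases h11 : m < 96
  · exact allIn_spec tblTwo11 (by omega) (by omega)
  by_cases h12 : m < 104
  · exact allIn_spec tblTwo12 (by omega) (by omega)
  exact allIn_spec tblTwo13 (by omega) (by omega)

end Cfsg.Agent.Lib.TitsMult
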