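import Cfsg.Agent.Lib.TitsMult.Tables

/-!
# Kernel checks for the Schur multiplier of the Tits group
-/

set_option autoImplicit false
set_option maxRecDepth 100000
set_option maxHeartbeats 2000000
set_option Elab.async false

namespace Cfsg.Agent.Lib.TitsMult

open Cfsg.Agent.Lib.J3 Cfsg.Agent.KnownA.Tits

theorem digTwo0 : allIn (digOK 2 11 genTwo baseTwo digTwo srtTwo rankTwo) 0 256 = true := by decide +kernel

theorem digTwo1 : allIn (digOK 2 11 genTwo baseTwo digTwo srtTwo rankTwo) 256 256 = true := by decide +kernel

theorem digTwo2 : allIn (digOK 2 11 genTwo baseTwo digTwo srtTwo rankTwo) 512 256 = true := by decide +kernel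

theorem digTwo3 : allIn (digOK 2 11 genTwo baseTwo digTwo srtTwo rankTwo) 768 256 = true := by decide +kernel

theorem digTwo4 : allIn (digOK 2 11 genTwo baseTwo digTwo srtTwo rankTwo) 1024 256 = true := by decide +kernel

theorem digTwo5 : allIn (digOK 2 11 genTwo baseTwo digTwo srtTwo rankTwo) 1280 256 = true := by decide +kernel

theorem digTwo6 : allIn (digOK 2 11 genTwo baseTwo digTwo srtTwo rankTwo) 1536 256 = true := by decide +kernel

theorem digTwo7 : allIn (digOK 2 11 genTwo baseTwo digTwo srtTwo rankTwo) 1792 256 = true := by decide +kernel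

theorem digTwo_ok {m : ℕ} (hm : m < 2048) : (digOK 2 11 genTwo baseTwo digTwo srtTwo rankTwo) m = true := by
  by_cases h0 : m < 256
  · exact allIn_spec digTwo0 (by omega) (by omega)
  by_cases h1 : m < 512
  · exact allIn_spec digTwo1 (by omega) (by omega)
  by_cases h2 : m < 768
  · exact allIn_spec digTwo2 (by omega) (by omega)
  by_cases h3 : m < 1024
  · exact allIn_spec digTwo3 (by omega) (by omega)
  by_cases h4 : m < 1280
  · exact allIn_spec digTwo4 (by omega) (by omega)
  by_cases h5 : m < 1536
  · exact allIn_spec digTwo5 (by omega) (by omega)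
  by_cases h6 : m < 1792
  · exact allIn_spec digTwo6 (by omega) (by omega)
  exact allIn_spec digTwo7 (by omega) (by omega)

theorem smallTwo0 : allIn (smallOK 2 11) 0 256 = true := by decide +kernel

theorem smallTwo1 : allIn (smallOK 2 11) 256 256 = true := by decide +kernel

theorem smallTwo2 : allIn (smallOK 2 11) 512 256 = true := by decide +kernel

theorem smallTwo3 : allIn (smallOK 2 11) 768 256 = true := by decide +kernel

theorem smallTwo4 : allIn (smallOK 2 11) 1024 256 = true := by decide +kernel

theorem smallTwo5 : allIn (smallOK 2 11) 1280 256 = true := by decide +kernel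

theorem smallTwo6 : allIn (smallOK 2 11) 1536 256 = true := by decide +kernel

theorem smallTwo7 : allIn (smallOK 2 11) 1792 256 = true := by decide +kernel

theorem smallTwo_ok {m : ℕ} (hm : m < 2048) : (smallOK 2 11) m = true := by
  by_cases h0 : m < 256
  · exact allIn_spec smallTwo0 (by omega) (by omega)
  by_cases h1 : m < 512
  · exact allIn_spec smallTwo1 (by omega) (by omega)
  by_cases h2 : m < 768
  · exact allIn_spec smallTwo2 (by omega) (by omega)
  by_cases h3 : m < 1024
  · exact allIn_spec smallTwo3 (by omega) (by omega)
  by_cases h4 : m < 1280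
  · exact allIn_spec smallTwo4 (by omega) (by omega)
  by_cases h5 : m < 1536
  · exact allIn_spec smallTwo5 (by omega) (by omega)
  by_cases h6 : m < 1792
  · exact allIn_spec smallTwo6 (by omega) (by omega)
  exact allIn_spec smallTwo7 (by omega) (by omega)

end Cfsg.Agent.Lib.TitsMult
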