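import Cfsg.Agent.Lib.TitsMult.ChecksTwoA
import Cfsg.Agent.Lib.TitsMult.ChecksTwoB
import Cfsg.Agent.Lib.TitsMult.ChecksTwoC
import Cfsg.Agent.Lib.TitsMult.ChecksOdd
import Cfsg.Agent.Lib.KnownA.Tits.Inst
import Cfsg.Agent.Lib.Compute.MultReduce

/-!
# The Schur multiplier of the Tits group
-/

set_option autoImplicit false
set_option maxRecDepth 100000

namespace Cfsg.Agent.Lib.TitsMult

open Cfsg.Lie Cfsg.Agent.Lib.J3 Cfsg.Agent.KnownA.Tits Cfsg.Agent.Lib.Chev Cfsg.Agent.Lib.Chev.Tw
  Cfsg.Agent.Lib.Chev.Tw.F4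

variable {K : Type*} [Field K] [Fintype K] (A : Par K 0)
include A

/-- The generators of a Sylow subgroup. -/
noncomputable def gen (cs : List (List ℕ)) (i : ℕ) : ↥(commutator ↥(G1 K 0)) :=
  el A (cs.getD i [])

theorem val_gen (cs : List (List ℕ)) : ∀ w, Collect.val (gen A cs) w = el A (wOf cs w)
  | [] => by rw [show wOf cs [] = [] from rfl, el_nil]; rfl
  | a :: w => by
    rw [Collect.val_cons, val_gen cs w, show wOf cs (a :: w) = cs.getD a [] ++ wOf cs w from rfl,
      el_append]
    rfl

theorem dig_eq {u u' : List ℕ} {v : ℕ} (hv : v < 2 ^ 52) (h : el A u = el A u') :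
    applyTW (word u) v = applyTW (word u') v := by
  haveI := charP_two A
  obtain ⟨hlt, hs⟩ := applyTW_spec (K := K) (word u) (word_rows u) _ hv
  obtain ⟨hlt', hs'⟩ := applyTW_spec (K := K) (word u') (word_rows u') _ hv
  refine bvec_inj K hlt hlt' ?_
  rw [hs, hs', ← wd_val A, ← wd_val A, ← el_val A, ← el_val A, h]

omit A in
theorem applyTW_append : ∀ (u w : List ℕ) (v : ℕ),
    applyTW (u ++ w) v = applyTW w (applyTW u v)
  | [], _, _ => rfl
  | r :: u, w, v => applyTW_append u w (applyT r v)

theorem kill_apply {p n : ℕ} {lhs rhs : List (List ℕ)} {fs : List Collect.Fus}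
    {own : List (ℕ × ℕ)} {V : ℕ} {srcs : List Collect.Src} {sh co cs gs : List (List ℕ)}
    {v : ℕ} {dg srt rk : List ℕ}
    (hg : groupOK cs gs (mkKill p n lhs rhs fs own V srcs sh co) = true)
    (howner : (mkKill p n lhs rhs fs own V srcs sh co).ownerOK = true)
    {tbl : List (List ℕ × List ℕ)}
    (htbl : (mkKill p n lhs rhs fs own V srcs sh co).tableOK p tbl = true)
    (hshape : (mkKill p n lhs rhs fs own V srcs sh co).shapeOK p = true)
    (hcombo : allIn (fun k => (mkKill p n lhs rhs fs own V srcs sh co).comboTOK tbl p k) 0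
      lhs.length = true)
    (hdig : ∀ {m : ℕ}, m < p ^ n → digOK p n cs v dg srt rk m = true)
    (hsmall : ∀ {m : ℕ}, m < p ^ n → smallOK p n m = true)
    (hv : v < 2 ^ 52) (hp : 0 < p) (hcop : ∀ c, p ^ n * c = 17971200 → Nat.Coprime p c)
    {Δ : Type*} [Group Δ] [Finite Δ] (τ : Δ →* ↥(commutator ↥(G1 K 0)))
    (hs : Function.Surjective τ) (hc : τ.ker ≤ Subgroup.center Δ) {z : Δ} (hz : z ∈ τ.ker)
    (hz' : z ∈ commutator Δ) (hzp : z ^ p = 1) (hker : ∀ w ∈ τ.ker, ∃ i : ℕ, w = z ^ i) :
    z = 1 := by
  simp only [groupOK, Bool.and_eq_true, List.all_eq_true, List.mem_range] at hg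
  obtain ⟨hrule, hfus⟩ := hg
  have hnf0 : normW p n 0 = [] := by
    simp [Collect.normal]
  refine Collect.eq_one_of_cert_shape τ hs hc hz hz' hzp hker (mkKill p n lhs rhs fs own V srcs sh co)
    (gen A cs) ?_ ?_ howner tbl htbl (fun k hk => allIn_spec hcombo (Nat.zero_le _) (by rw [Nat.zero_add]; exact hk))
    hp hshape rfl rfl ?_ ?_ ?_
  · intro k hk
    rw [val_gen, val_gen]
    exact el_eq A (hrule k hk)
  · intro g hgl
    refine ⟨el A (gs.getD g []), fun i hi => ?_⟩
    rw [val_gen, val_gen, mul_inv_eq_iff_eq_mul, ← el_append, ← el_append]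
    exact el_eq A (hfus g hgl i hi)
  · intro m hm i hi
    have h := hsmall hm
    simp only [smallOK, List.all_eq_true, Nat.blt_eq] at h
    exact h i hi
  · have hd : ∀ m, m < p ^ n → applyTW (word (wOf cs (normW p n m))) v = entry 52 dg m ∧
        entry 12 rk m < p ^ n ∧ entry 12 srt (entry 12 rk m) = m ∧
        (m + 1 < p ^ n → entry 52 dg (entry 12 srt m) < entry 52 dg (entry 12 srt (m + 1))) := by
      intro m
      induction m using Nat.strong_induction_on with
      | _ m ih =>
        intro hm
        have h := hdig hm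
        simp only [digOK, Bool.and_eq_true, Bool.or_eq_true, Nat.blt_eq] at h
        obtain ⟨h1, ⟨h2, h3⟩, h4⟩ := h
        refine ⟨?_, h2, Nat.eq_of_beq_eq_true h3, fun hm1 => ?_⟩
        · rcases Nat.eq_zero_or_pos m with rfl | hpos
          · simp only [Nat.beq_refl, cond_true] at h1
            rw [hnf0, Nat.eq_of_beq_eq_true h1]
            rfl
          · have hb : Nat.beq m 0 = false := by
              cases hb : Nat.beq m 0
              · rfl
              · exact absurd (Nat.eq_of_beq_eq_true hb) (by omega)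
            simp only [hb, cond_false, Bool.and_eq_true, Nat.blt_eq, digOK.eqListB] at h1
            obtain ⟨e1, e2, e3⟩ := h1
            have e := Collect.eqList_sound e1
            rw [Nat.eq_of_beq_eq_true e3, ← (ih _ e2 (by omega)).1, e]
            simp only [wOf, List.flatMap_append, List.flatMap_cons, List.flatMap_nil, word,
              List.append_nil]
            exact applyTW_append _ _ _
        · rcases h4 with h4 | h4
          · have := Nat.ble_eq.mp h4; omega
          · exact h4
    intro m hm m' hm' e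
    rw [val_gen, val_gen] at e
    have e' := dig_eq A hv e
    change applyTW (word (wOf cs (normW p n m))) v = applyTW (word (wOf cs (normW p n m'))) v at e'
    obtain ⟨d1, r1, s1, -⟩ := hd m hm
    obtain ⟨d2, r2, s2, -⟩ := hd m' hm'
    rw [d1, d2] at e'
    have hmono : ∀ j, j < p ^ n → ∀ i < j,
        entry 52 dg (entry 12 srt i) < entry 52 dg (entry 12 srt j) := by
      intro j
      induction j with
      | zero => intro _ i hi; omega
      | succ j ih =>
        intro hj i hi
        have hstep := (hd j (by omega)).2.2.2 hj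
        rcases Nat.lt_succ_iff_lt_or_eq.mp hi with hlt | rfl
        · exact lt_trans (ih (by omega) i hlt) hstep
        · exact hstep
    rcases lt_trichotomy (entry 12 rk m) (entry 12 rk m') with h | h | h
    · have := hmono _ r2 _ h
      rw [s1, s2] at this
      exact absurd e' this.ne
    · rw [← s1, ← s2, h]
    · have := hmono _ r1 _ h
      rw [s1, s2] at this
      exact absurd e'.symm this.ne
  · intro c hc'
    exact hcop c (hc'.trans (card_comm A))

/-- No prime enters the multiplier. -/
theorem eq_one_of_prime {p : ℕ} (hp : p ∈ [2, 3, 5, 13]) {Δ : Type*} [Group Δ] [Finite Δ]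
    (τ : Δ →* ↥(commutator ↥(G1 K 0))) (hs : Function.Surjective τ)
    (hc : τ.ker ≤ Subgroup.center Δ) (hd : τ.ker ≤ commutator Δ) {z : Δ} (hz : z ∈ τ.ker)
    (hzp : z ^ p = 1) : z = 1 := by
  simp only [List.mem_cons, List.not_mem_nil, or_false] at hp
  rcases hp with rfl | rfl | rfl | rfl
  · haveI := Fact.mk Nat.prime_two
    refine Compute.eq_one_of_kernel_prime τ hs hc hd ?_ hz hzp
    intro Δ' _ _ τ' hs' hc' w hw hw' hwp hker
    exact kill_apply A (p := 2) (n := 11) groupTwo ownerTwo_ok tableTwo shapeTwo comboTwo_ok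
      digTwo_ok smallTwo_ok (by decide) (by norm_num)
      (fun c hc => by rw [show c = 8775 by omega]; norm_num) τ' hs' hc' hw hw' hwp hker
  · haveI := Fact.mk Nat.prime_three
    refine Compute.eq_one_of_kernel_prime τ hs hc hd ?_ hz hzp
    intro Δ' _ _ τ' hs' hc' w hw hw' hwp hker
    exact kill_apply A (p := 3) (n := 3) groupThree ownerThree_ok tableThree shapeThree comboThree_ok
      digThree_ok smallThree_ok (by decide) (by norm_num)
      (fun c hc => by rw [show c = 665600 by omega]; norm_num) τ' hs' hc' hw hw' hwp hker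
  · haveI : Fact (Nat.Prime 5) := ⟨by norm_num⟩
    refine Compute.eq_one_of_kernel_prime τ hs hc hd ?_ hz hzp
    intro Δ' _ _ τ' hs' hc' w hw hw' hwp hker
    exact kill_apply A (p := 5) (n := 2) groupFive ownerFive_ok tableFive shapeFive comboFive_ok
      digFive_ok smallFive_ok (by decide) (by norm_num)
      (fun c hc => by rw [show c = 718848 by omega]; norm_num) τ' hs' hc' hw hw' hwp hker
  · refine Compute.eq_one_of_cyclic τ hs hc hz (hd hz) hzp (x := el A xL) ?_
    haveI : Fact (Nat.Prime 13) := ⟨by norm_num⟩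
    have h1 : el A xL ^ 13 = 1 := by rw [← el_rep, el_eq A thirteen.1, el_nil]
    have hcard : Nat.card (Subgroup.zpowers (el A xL)) = 13 := by
      rw [Nat.card_zpowers, orderOf_eq_prime h1 (el_ne A thirteen.2)]
    have h := (Subgroup.zpowers (el A xL)).card_mul_index
    rw [hcard, card_comm A] at h
    rw [show (Subgroup.zpowers (el A xL)).index = 1382400 by omega]
    norm_num

end Cfsg.Agent.Lib.TitsMult
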