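import Cfsg.Agent.Lib.KnownA.Tits.Data
import Cfsg.Agent.Lib.J3.KillShape
import Cfsg.Agent.Lib.TitsMult.Data

/-!
# Checks for the Schur multiplier of the Tits group
-/

set_option autoImplicit false
set_option maxRecDepth 100000
set_option maxHeartbeats 2000000
set_option Elab.async false

namespace Cfsg.Agent.Lib.TitsMult

open Cfsg.Agent.Lib.J3 Cfsg.Agent.KnownA.Tits Cfsg.Agent.Lib.Chev.Tw.F4

/-- The number of rules whose second letter is below `b`. -/
def offs (n : ℕ) : ℕ → ℕ
  | 0 => 0
  | b + 1 => offs n b + (n - b)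

/-- A run of equal letters. -/
def runOf (a : ℕ) : ℕ → List ℕ → Bool
  | 0, _ => true
  | _ + 1, [] => false
  | k + 1, c :: w => Nat.beq c a && runOf a k w

/-- Rule lookup. -/
def pickP (p n : ℕ) : List ℕ → Option ℕ
  | a :: b :: w =>
    bif Nat.blt b a then some (offs n b + (a - b))
    else bif runOf a (p - 1) (b :: w) then some (offs n a) else none
  | _ => none

/-- The normal word of a number. -/
abbrev normW : ℕ → ℕ → ℕ → List ℕ := Collect.normal

/-- The number of a normal word. -/
def encW (p : ℕ) (w : List ℕ) : ℕ := (w.map fun i => p ^ i).sum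

/-- The index word of a word in the generators. -/
def wOf (cs : List (List ℕ)) (w : List ℕ) : List ℕ := w.flatMap fun i => cs.getD i []

/-- A certificate. -/
def mkKill (p n : ℕ) (lhs rhs : List (List ℕ)) (fs : List Collect.Fus) (own : List (ℕ × ℕ))
    (V : ℕ) (srcs : List Collect.Src) (sh co : List (List ℕ)) : Collect.KillData where
  R := ⟨pickP p n, fun k => lhs.getD k [], fun k => rhs.getD k [], lhs.length⟩
  n := n
  fs := fs
  owner t := own.getD (t - lhs.length) (0, 0)
  V := V
  srcs := srcs
  shift i := sh.getD i []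
  combo k := co.getD k []
  N := p ^ n
  nf := normW p n
  enc := encW p

/-- The certificate at two. -/
def killTwo : Collect.KillData :=
  mkKill 2 11 lhsTwo rhsTwo fusTwo ownerTwo 77 srcTwo shiftTwo comboTwo

/-- The certificate at three. -/
def killThree : Collect.KillData :=
  mkKill 3 3 lhsThree rhsThree fusThree ownerThree 10 srcThree shiftThree comboThree

/-- The certificate at five. -/
def killFive : Collect.KillData :=
  mkKill 5 2 lhsFive rhsFive fusFive ownerFive 7 srcFive shiftFive comboFive

/-- The rules and conjugations hold. -/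
def groupOK (cs gs : List (List ℕ)) (D : Collect.KillData) : Bool :=
  ((List.range D.R.num).all fun k => chkEq (wOf cs (D.R.lhs k)) (wOf cs (D.R.rhs k))) &&
    (List.range D.fs.length).all fun g =>
      (List.range (D.fs.getD g ⟨[], [], 0⟩).src.length).all fun i =>
        chkEq (gs.getD g [] ++ wOf cs ((D.fs.getD g ⟨[], [], 0⟩).src.getD i []))
          (wOf cs ((D.fs.getD g ⟨[], [], 0⟩).img.getD i []) ++ gs.getD g [])

/-- The packed entry. -/
def entry (w : ℕ) (l : List ℕ) (i : ℕ) : ℕ :=
  Nat.land (Nat.shiftRight (l.getD (i / 100) 0) (w * (i % 100))) (2 ^ w - 1)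

/-- The highest place of a number. -/
def topPlace (p : ℕ) : ℕ → ℕ → ℕ
  | 0, _ => 0
  | f + 1, m => bif Nat.ble (p ^ (f + 1)) m then f + 1 else topPlace p f m

/-- The images of a vector separate the normal words. -/
def digOK (p n : ℕ) (cs : List (List ℕ)) (v : ℕ) (dg srt rk : List ℕ) (m : ℕ) : Bool :=
  (bif Nat.beq m 0 then Nat.beq (entry 52 dg 0) v
    else eqListB (normW p n m) (normW p n (m - p ^ topPlace p n m) ++ [topPlace p n m]) &&
      (Nat.blt (m - p ^ topPlace p n m) m &&
        Nat.beq (entry 52 dg m)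
          (applyTW (word (cs.getD (topPlace p n m) [])) (entry 52 dg (m - p ^ topPlace p n m))))) &&
    ((Nat.blt (entry 12 rk m) (p ^ n) && Nat.beq (entry 12 srt (entry 12 rk m)) m) &&
      (Nat.ble (p ^ n) (m + 1) ||
        Nat.blt (entry 52 dg (entry 12 srt m)) (entry 52 dg (entry 12 srt (m + 1)))))
where
  /-- Equality of lists. -/
  eqListB (a b : List ℕ) : Bool := Collect.eqList a b

/-- Letters of normal words are small. -/
def smallOK (p n : ℕ) (m : ℕ) : Bool := (normW p n m).all fun i => Nat.blt i n

/-- The tabulated equation `j` is right. -/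
def tblAt (D : Collect.KillData) (p : ℕ) (tbl : List (List ℕ × List ℕ)) (j : ℕ) : Bool :=
  (Collect.equation D.R D.fs (D.srcs.getD j (.ovl [] 0 0 0 0))).1 &&
    (Collect.congrOK p D.V (Collect.equation D.R D.fs (D.srcs.getD j (.ovl [] 0 0 0 0))).2.1
        (tbl.getD j ([], [])).1 &&
      Collect.congrOK p D.V (Collect.equation D.R D.fs (D.srcs.getD j (.ovl [] 0 0 0 0))).2.2
        (tbl.getD j ([], [])).2)

theorem tableOK_of {D : Collect.KillData} {p : ℕ} {tbl : List (List ℕ × List ℕ)}
    (hlen : tbl.length = D.srcs.length) (h : ∀ j < D.srcs.length, tblAt D p tbl j = true) :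
    D.tableOK p tbl = true := by
  simp only [Collect.KillData.tableOK, Bool.and_eq_true, List.all_eq_true, List.mem_range]
  exact ⟨by rw [hlen]; exact Nat.beq_refl _, fun j hj => by simpa [tblAt] using h j hj⟩

/-- All checks on an interval. -/
def allIn (f : ℕ → Bool) (lo len : ℕ) : Bool := (List.range len).all fun i => f (lo + i)

theorem allIn_spec {f : ℕ → Bool} {lo len : ℕ} (h : allIn f lo len = true) {m : ℕ} (h1 : lo ≤ m)
    (h2 : m < lo + len) : f m = true := by
  have := List.all_eq_true.mp h (m - lo) (List.mem_range.mpr (by omega))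
  rwa [show lo + (m - lo) = m by omega] at this

end Cfsg.Agent.Lib.TitsMult
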